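import Cfsg.Agent.Lib.QuadType.Forms
import Cfsg.Agent.Lib.Maximal99.OrthUnipotent
import Cfsg.Agent.Lib.Sp.Card
import Cfsg.Agent.Lib.Sp.Simple

/-!
Characteristic two: the symplectic group and the quadratic forms polarising to its form.
-/

set_option autoImplicit false
set_option linter.unusedSectionVars false

namespace CfsgLib.QuadType

open Matrix QuadraticMap

variable {F : Type*} [Field F] [Fintype F] [CharP F 2] {d : ℕ}

/-- The space of the symplectic group. -/
abbrev SV (d : ℕ) : Type := Fin d ⊕ Fin d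

/-- `Q` polarises to the standard alternating form. -/
def Polarises (Q : (SV d → F) → F) : Prop :=
  ∀ u v, QuadraticMap.polar Q u v = Cfsg.sympForm d F u v

theorem card_SV : Fintype.card (SV d) = 2 * d := by simp [two_mul]

omit [Fintype F] in
theorem mem_spGL_of_isometry {Q Q' : (SV d → F) → F} (hQ : Polarises Q) (hQ' : Polarises Q')
    {T : GL (SV d) F} (h : ∀ v, Q ((T : Matrix (SV d) (SV d) F) *ᵥ v) = Q' v) : T ∈ Cfsg.spGL d F := by
  intro u v
  show Cfsg.sympForm d F ((T : Matrix (SV d) (SV d) F) *ᵥ u) ((T : Matrix (SV d) (SV d) F) *ᵥ v) = _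
  rw [← hQ, ← hQ']
  simp only [QuadraticMap.polar, ← mulVec_add, h]

omit [Fintype F] in
theorem inv_mulVec {T : GL (SV d) F} (v : SV d → F) :
    (T : Matrix (SV d) (SV d) F) *ᵥ (((T⁻¹ : GL (SV d) F) : Matrix (SV d) (SV d) F) *ᵥ v) = v := by
  rw [mulVec_mulVec, ← Units.val_mul, mul_inv_cancel, Units.val_one, one_mulVec]

omit [Fintype F] in
theorem inv_mulVec' {T : GL (SV d) F} (v : SV d → F) :
    ((T⁻¹ : GL (SV d) F) : Matrix (SV d) (SV d) F) *ᵥ ((T : Matrix (SV d) (SV d) F) *ᵥ v) = v := by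
  rw [mulVec_mulVec, ← Units.val_mul, inv_mul_cancel, Units.val_one, one_mulVec]

omit [Fintype F] in
theorem scale_eq_one {Q : (SV d → F) → F} (hQ : Polarises Q) (hd : 1 ≤ d) {g : GL (SV d) F}
    (hg : g ∈ Cfsg.spGL d F) {c : F} (h : ∀ v, Q ((g : Matrix (SV d) (SV d) F) *ᵥ v) = c * Q v) : c = 1 := by
  have key : ∀ u v, Cfsg.sympForm d F u v = c * Cfsg.sympForm d F u v := fun u v => by
    have e : Cfsg.sympForm d F ((g : Matrix (SV d) (SV d) F) *ᵥ u) ((g : Matrix (SV d) (SV d) F) *ᵥ v) =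
        Cfsg.sympForm d F u v := hg u v
    conv_lhs => rw [← e, ← hQ]
    rw [← hQ]
    simp only [QuadraticMap.polar, ← mulVec_add, h]
    ring
  have := key (Pi.single (Sum.inl ⟨0, hd⟩) 1) (Pi.single (Sum.inr ⟨0, hd⟩) 1)
  have hne : Cfsg.sympForm d F (Pi.single (Sum.inl (⟨0, hd⟩ : Fin d)) 1)
      (Pi.single (Sum.inr (⟨0, hd⟩ : Fin d)) 1) ≠ 0 := by
    simp [Cfsg.sympForm, Matrix.J, Matrix.mulVec_single_one]
  exact (mul_eq_right₀ hne).1 this.symm

/-- A point is fixed iff some invariant form polarising to the alternating form has the same type. -/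
theorem fixes_iff {Q : QuadraticForm F (SV d → F)} (hQn : Q.polarBilin.Nondegenerate)
    (hQ : Polarises ⇑Q) (hd : 1 ≤ d) {x : GL (SV d) F} (hx : x ∈ Cfsg.spGL d F) :
    (∃ g ∈ Cfsg.spGL d F, g⁻¹ * x * g ∈ Cfsg.Geo.quadSimilarityGroup (⇑Q)) ↔
    ∃ Q' : QuadraticForm F (SV d → F), Q'.polarBilin.Nondegenerate ∧ Polarises ⇑Q' ∧
      (∀ v, Q' ((x : Matrix (SV d) (SV d) F) *ᵥ v) = Q' v) ∧ (IsPlus (⇑Q') d ↔ IsPlus (⇑Q) d) := by
  constructor
  · rintro ⟨g, hg, c, hc⟩
    have hc1 : (c : F) = 1 :=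
      scale_eq_one hQ hd (mul_mem (mul_mem (inv_mem hg) hx) hg) hc
    let L : (SV d → F) →ₗ[F] (SV d → F) := Matrix.mulVecLin ((g⁻¹ : GL (SV d) F) : Matrix _ _ F)
    have hpol : Polarises ⇑(Q.comp L) := fun u v => by
      have e : polar (⇑(Q.comp L)) u v = polar (⇑Q) (L u) (L v) := by
        simp [QuadraticMap.polar, map_add]
      rw [e, hQ]
      exact inv_mem hg u v
    refine ⟨Q.comp L, ⟨fun u hu => ?_, fun u hu => ?_⟩, hpol, fun v => ?_, ?_⟩
    · refine hQn.1 u fun v => ?_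
      have := hu v
      rw [polarBilin_apply_apply, hpol, ← hQ] at this
      exact this
    · refine hQn.2 u fun v => ?_
      have := hu v
      rw [polarBilin_apply_apply, hpol, ← hQ] at this
      exact this
    · show Q (L _) = Q (L v)
      have e := hc (((g⁻¹ : GL (SV d) F) : Matrix _ _ F) *ᵥ v)
      rw [hc1, one_mul, Units.val_mul, Units.val_mul, ← mulVec_mulVec, ← mulVec_mulVec, inv_mulVec] at e
      exact e
    · have hinj : ∀ h : GL (SV d) F, Function.Injective (Matrix.mulVecLin (h : Matrix (SV d) (SV d) F)) :=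
        fun h a b e => by
          have := congrArg (fun w => ((h⁻¹ : GL (SV d) F) : Matrix (SV d) (SV d) F) *ᵥ w) e
          simpa [Matrix.mulVec_mulVec] using this
      constructor
      · rintro ⟨U, hU, hUd⟩
        refine ⟨U.map L, ?_, ?_⟩
        · rintro _ ⟨u, hu, rfl⟩; exact hU u hu
        · exact ((Submodule.equivMapOfInjective L (hinj _) U).finrank_eq.symm).trans hUd
      · rintro ⟨U, hU, hUd⟩
        refine ⟨U.map (Matrix.mulVecLin (g : Matrix _ _ F)), ?_, ?_⟩
        · rintro _ ⟨u, hu, rfl⟩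
          show Q (L _) = 0
          simp only [L, Matrix.mulVecLin_apply, inv_mulVec']
          exact hU u hu
        · exact ((Submodule.equivMapOfInjective _ (hinj g) U).finrank_eq.symm).trans hUd
  · rintro ⟨Q', hQ'n, hQ', hinv, htype⟩
    obtain ⟨T, hT⟩ := exists_isometry Q' Q hQ'n hQn card_SV htype
    refine ⟨T, mem_spGL_of_isometry hQ' hQ hT, 1, fun v => ?_⟩
    rw [Units.val_one, one_mul, Units.val_mul, Units.val_mul, ← mulVec_mulVec, ← mulVec_mulVec]
    have e := hinv ((T : Matrix _ _ F) *ᵥ v)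
    rw [← hT, inv_mulVec, e, hT]

/-- Two forms polarising alike, both fixed by a map without fixed vectors, are equal. -/
theorem eq_of_fixed_point_free {Q Q' : QuadraticForm F (SV d → F)} (hQ : Polarises ⇑Q)
    (hQ' : Polarises ⇑Q') (M : Matrix (SV d) (SV d) F) (h : ∀ v, Q (M *ᵥ v) = Q v)
    (h' : ∀ v, Q' (M *ᵥ v) = Q' v) (hfree : ∀ v, M *ᵥ v = v → v = 0) : ∀ v, Q v = Q' v := by
  have hadd : ∀ u v, Q (u + v) - Q' (u + v) = (Q u - Q' u) + (Q v - Q' v) := fun u v => by
    have e := (hQ u v).trans (hQ' u v).symm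
    simp only [QuadraticMap.polar] at e
    linear_combination e
  intro v
  obtain ⟨w, hw⟩ := LinearMap.surjective_of_injective (f := M.mulVecLin - LinearMap.id)
    (LinearMap.ker_eq_bot.1 ((Submodule.eq_bot_iff _).2 fun u hu => hfree u (by
      simpa [sub_eq_zero] using hu))) v
  have hv : v = M *ᵥ w + w := by
    rw [← hw]
    simp only [LinearMap.sub_apply, Matrix.mulVecLin_apply, LinearMap.id_coe, id_eq]
    funext i
    simp [CharTwo.sub_eq_add]
  rw [← sub_eq_zero, hv, hadd, h, h', CharTwo.add_self_eq_zero]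

/-- An involution of the symplectic group leaves invariant some form polarising to the alternating
form; unless there is a totally singular half for each of them, both types occur. -/
theorem exists_invariant_both (hd : 1 ≤ d) {Q₀ : QuadraticForm F (SV d → F)}
    (hQ₀n : Q₀.polarBilin.Nondegenerate) (hQ₀ : Polarises ⇑Q₀) (M : Matrix (SV d) (SV d) F)
    (hM : M * M = 1) (hMf : ∀ u v, Cfsg.sympForm d F (M *ᵥ u) (M *ᵥ v) = Cfsg.sympForm d F u v) :
    ∃ Q : QuadraticForm F (SV d → F), Q.polarBilin.Nondegenerate ∧ Polarises ⇑Q ∧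
      (∀ v, Q (M *ᵥ v) = Q v) ∧
      ((∃ w, M *ᵥ w = w ∧ Q w ≠ 0) ∨
        (IsPlus (⇑Q) d ∧ ∃ β : LinearMap.BilinForm F ((SV d → F) ⧸ LinearMap.ker (M.mulVecLin - LinearMap.id)),
          (∀ a, β a a = 0) ∧ β.SeparatingLeft ∧
          Module.finrank F ((SV d → F) ⧸ LinearMap.ker (M.mulVecLin - LinearMap.id)) = d)) := by
  classical
  let B := Q₀.polarBilin
  have hB : ∀ u v, B u v = Cfsg.sympForm d F u v := hQ₀
  have hBsym : ∀ u v, B u v = B v u := fun u v => polar_comm _ _ _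
  have hBM : ∀ u v, B (M *ᵥ u) (M *ᵥ v) = B u v := fun u v => by rw [hB, hB, hMf]
  have hBself : ∀ u, B u u = 0 := fun u => by
    show polar Q₀ u u = 0
    rw [polar_self]; simp [two_smul, CharTwo.add_self_eq_zero]
  set N : (SV d → F) →ₗ[F] (SV d → F) := M.mulVecLin - LinearMap.id with hN
  have hNv : ∀ v, N v = M *ᵥ v + v := fun v => by
    funext i; simp [hN, CharTwo.sub_eq_add]
  have hMN : ∀ v, M *ᵥ v = v + N v := fun v => by
    rw [hNv, add_comm (M *ᵥ v) v, ← add_assoc]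
    funext i; simp [CharTwo.add_self_eq_zero]
  have hNN : ∀ v, N (N v) = 0 := fun v => by
    rw [hNv, hNv v, mulVec_add, mulVec_mulVec, hM, one_mulVec]
    funext i
    simp only [Pi.add_apply, Pi.zero_apply]
    linear_combination ((M *ᵥ v) i + v i) * (CharTwo.two_eq_zero : (2 : F) = 0)
  have hBN : ∀ u v, B (N u) v = B u (N v) := fun u v => by
    have h1 : B (M *ᵥ u) v = B u (M *ᵥ v) := by
      conv_lhs => rw [← one_mulVec v, ← hM, ← mulVec_mulVec]
      exact hBM _ _
    simp only [hNv, map_add, LinearMap.add_apply, h1]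
  have hBNN : ∀ u v, B (N u) (N v) = 0 := fun u v => by rw [hBN, hNN, map_zero]
  -- `v ↦ Q₀(Mv) + Q₀(v)` is the square of a linear functional
  have hFrob : ∀ x : F, ∃ y, y * y = x := fun x =>
    (FiniteField.isSquare_of_char_two (ringChar.eq F 2 ▸ rfl : ringChar F = 2) x).imp fun _ h => h.symm
  choose sq hsq using hFrob
  have hsq_unique : ∀ a b : F, a * a = b * b → a = b := fun a b e => by
    have : (a + b) * (a + b) = 0 := by
      linear_combination e + (b * b + a * b) * (CharTwo.two_eq_zero : (2 : F) = 0)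
    exact CharTwo.add_eq_zero.1 (mul_self_eq_zero.1 this)
  have hD : ∀ v, Q₀ (M *ᵥ v) + Q₀ v = Q₀ (N v) + B v (N v) := fun v => by
    rw [hMN, QuadraticMap.map_add Q₀]
    show Q₀ v + Q₀ (N v) + B v (N v) + Q₀ v = _
    linear_combination Q₀ v * (CharTwo.two_eq_zero : (2 : F) = 0)
  have hDadd : ∀ u v, Q₀ (M *ᵥ (u + v)) + Q₀ (u + v) =
      (Q₀ (M *ᵥ u) + Q₀ u) + (Q₀ (M *ᵥ v) + Q₀ v) := fun u v => by
    have e1 : Q₀ (M *ᵥ (u + v)) = Q₀ (M *ᵥ u) + Q₀ (M *ᵥ v) + B (M *ᵥ u) (M *ᵥ v) := by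
      rw [mulVec_add]; exact QuadraticMap.map_add Q₀ _ _
    have e2 : Q₀ (u + v) = Q₀ u + Q₀ v + B u v := QuadraticMap.map_add Q₀ _ _
    rw [e1, e2, hBM]
    linear_combination B u v * (CharTwo.two_eq_zero : (2 : F) = 0)
  let φ : (SV d → F) →ₗ[F] F :=
    { toFun := fun v => sq (Q₀ (M *ᵥ v) + Q₀ v)
      map_add' := fun u v => hsq_unique _ _ (by
        rw [hsq, hDadd]
        linear_combination -(hsq (Q₀ (M *ᵥ u) + Q₀ u)) - hsq (Q₀ (M *ᵥ v) + Q₀ v) -
          sq (Q₀ (M *ᵥ u) + Q₀ u) * sq (Q₀ (M *ᵥ v) + Q₀ v) * (CharTwo.two_eq_zero : (2 : F) = 0))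
      map_smul' := fun c v => hsq_unique _ _ (by
        rw [hsq, mulVec_smul, QuadraticMap.map_smul, QuadraticMap.map_smul, RingHom.id_apply,
          smul_eq_mul, smul_eq_mul, smul_eq_mul]
        linear_combination -(c * c) * hsq (Q₀ (M *ᵥ v) + Q₀ v)) }
  have hker : LinearMap.ker N ≤ LinearMap.ker φ := fun v hv => by
    rw [LinearMap.mem_ker] at hv
    refine LinearMap.mem_ker.2 (hsq_unique _ _ ?_)
    show sq _ * sq _ = _
    rw [hsq, hD, hv, map_zero, map_zero, add_zero, mul_zero]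
  obtain ⟨ψ, hψ⟩ : ∃ ψ : (SV d → F) →ₗ[F] F, ∀ v, ψ (N v) = φ v := by
    let φ' := (LinearMap.ker N).liftQ φ hker
    obtain ⟨ψ, hψ⟩ := LinearMap.exists_extend (φ' ∘ₗ N.quotKerEquivRange.symm.toLinearMap)
    refine ⟨ψ, fun v => ?_⟩
    have := LinearMap.congr_fun hψ ⟨N v, LinearMap.mem_range_self N v⟩
    simp only [LinearMap.comp_apply, Submodule.coe_subtype, LinearEquiv.coe_coe] at this
    rw [this, LinearMap.quotKerEquivRange_symm_apply_image N v]
    rfl
  obtain ⟨w₀, hw₀⟩ : ∃ w, ∀ v, B w v = ψ v := by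
    refine ⟨(LinearMap.BilinForm.toDual B hQ₀n).symm ψ, fun v => ?_⟩
    exact LinearMap.BilinForm.apply_toDual_symm_apply (hB := hQ₀n) ψ v
  let Q := twist Q₀ w₀ 1
  have hQn : Q.polarBilin.Nondegenerate := twist_nondeg Q₀ hQ₀n w₀ 1
  have hQp : Polarises ⇑Q := fun u v => by rw [polar_twist, hQ₀]
  have hinv : ∀ v, Q (M *ᵥ v) = Q v := fun v => by
    have e : polar Q₀ w₀ (M *ᵥ v) = polar Q₀ w₀ v + φ v := by
      show B w₀ (M *ᵥ v) = B w₀ v + φ v
      rw [hMN, map_add, ← hψ, hw₀ (N v)]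
    show twist Q₀ w₀ 1 _ = twist Q₀ w₀ 1 _
    rw [twist_apply, twist_apply, e]
    have h : φ v * φ v = Q₀ (M *ᵥ v) + Q₀ v := hsq (Q₀ (M *ᵥ v) + Q₀ v)
    linear_combination h + (polar Q₀ w₀ v * φ v + Q₀ (M *ᵥ v)) * (CharTwo.two_eq_zero : (2 : F) = 0)
  refine ⟨Q, hQn, hQp, hinv, ?_⟩
  by_cases hex : ∃ w, M *ᵥ w = w ∧ Q w ≠ 0
  · exact Or.inl hex
  push Not at hex
  right
  have hkerfix : ∀ w, w ∈ LinearMap.ker N ↔ M *ᵥ w = w := fun w => by
    rw [LinearMap.mem_ker, hMN]
    constructor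
    · intro h; rw [h, add_zero]
    · intro h; simpa using h
  have hts : ∀ w ∈ LinearMap.ker N, Q w = 0 := fun w hw => hex w ((hkerfix w).1 hw)
  have hrn := N.finrank_range_add_finrank_ker
  rw [Module.finrank_fintype_fun_eq_card, card_SV] at hrn
  have hle : LinearMap.range N ≤ LinearMap.ker N := by
    rintro _ ⟨v, rfl⟩; exact LinearMap.mem_ker.2 (hNN v)
  have hmono := Submodule.finrank_mono hle
  have hkd : Module.finrank F (LinearMap.ker N) ≤ d := by
    have hsub : LinearMap.ker N ≤ LinearMap.BilinForm.orthogonal B (LinearMap.ker N) := by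
      intro u hu v hv
      show B v u = 0
      have h1 : polar Q v u = 0 := by
        simp only [QuadraticMap.polar, hts _ ((LinearMap.ker N).add_mem hv hu), hts _ hu, hts _ hv, sub_zero]
      rw [hQp] at h1
      rw [hB, h1]
    have := Submodule.finrank_mono hsub
    rw [LinearMap.BilinForm.finrank_orthogonal hQ₀n, Module.finrank_fintype_fun_eq_card, card_SV] at this
    omega
  refine ⟨⟨LinearMap.ker N, hts, by omega⟩, ?_⟩
  let β₀ : LinearMap.BilinForm F (SV d → F) := B.compl₂ N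
  have hβ : ∀ v, β₀ v v = 0 := fun v => by
    show B v (N v) = 0
    have hQN : Q (N v) = 0 := hts _ (LinearMap.mem_ker.2 (hNN v))
    have h2 := hinv v
    rw [hMN, QuadraticMap.map_add Q, hQN, add_zero, add_eq_left, hQp] at h2
    rwa [hB]
  let K := LinearMap.ker N
  have hflip : ∀ u v, β₀ u v = β₀ v u := fun u v => by
    show B u (N v) = B v (N u)
    rw [← hBN, hBsym]
  have h1 : ∀ u, K ≤ LinearMap.ker (β₀ u) := fun u v hv => by
    rw [LinearMap.mem_ker]
    show B u (N v) = 0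
    rw [LinearMap.mem_ker.1 hv, map_zero]
  let β₁ : (SV d → F) →ₗ[F] ((SV d → F) ⧸ K) →ₗ[F] F :=
    { toFun := fun u => K.liftQ (β₀ u) (h1 u)
      map_add' := fun u v => Submodule.linearMap_qext _ (LinearMap.ext fun z => by simp)
      map_smul' := fun c v => Submodule.linearMap_qext _ (LinearMap.ext fun z => by simp) }
  have h2 : K ≤ LinearMap.ker β₁ := fun u hu => by
    rw [LinearMap.mem_ker]
    refine Submodule.linearMap_qext _ (LinearMap.ext fun z => ?_)
    show β₀ u z = 0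
    rw [hflip]
    show B z (N u) = 0
    rw [LinearMap.mem_ker.1 hu, map_zero]
  refine ⟨K.liftQ β₁ h2, fun a => ?_, fun a ha => ?_, ?_⟩
  · induction a using Submodule.Quotient.induction_on with
    | _ v => exact hβ v
  · induction a using Submodule.Quotient.induction_on with
    | _ v =>
      rw [Submodule.Quotient.mk_eq_zero, LinearMap.mem_ker]
      refine hQ₀n.1 (N v) fun z => ?_
      show B (N v) z = 0
      rw [hBsym]
      show β₀ z v = 0
      rw [hflip]
      exact ha (Submodule.Quotient.mk z)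
  · have := Submodule.finrank_quotient_add_finrank K
    rw [Module.finrank_fintype_fun_eq_card, card_SV] at this
    show Module.finrank F ((SV d → F) ⧸ K) = d
    have hK : Module.finrank F K = d := by
      show Module.finrank F (LinearMap.ker N) = d
      omega
    omega

end CfsgLib.QuadType
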