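import Cfsg.Agent.Helper57WittBasis
import Cfsg.Agent.Lib.AutPOmega.FieldMinus
import Cfsg.Prelude.Def_GeometricClasses

/-!
A non-degenerate quadratic form in even dimension over a finite field is isometric to the standard
form of plus type or to one of minus type, and not to both.
-/

set_option autoImplicit false
set_option linter.unusedSectionVars false

namespace CfsgLib.QuadType

open Matrix QuadraticMap Cfsg.Agent.WittBasis57

variable {F : Type*} [Field F] [Fintype F] {ι : Type} [Fintype ι] [DecidableEq ι]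

/-- the standard plus index type -/
abbrev PI (k : ℕ) : Type := Fin k ⊕ Fin k

/-- the standard minus index type, `k` hyperbolic planes and an anisotropic one -/
abbrev MI (k : ℕ) : Type := (Fin k ⊕ Fin k) ⊕ Fin 2

theorem map_comb_zero {V : Type*} [AddCommGroup V] [Module F V] [FiniteDimensional F V]
    (Q : QuadraticForm F V) {κ : Type*} [Fintype κ] {e : κ → V} (h0 : ∀ i, Q (e i) = 0)
    (h1 : ∀ i j, polarBilin Q (e i) (e j) = 0) (x : κ → F) :
    Q (∑ i, x i • e i) = 0 := by
  classical
  have key : ∀ s : Finset κ, Q (∑ i ∈ s, x i • e i) = 0 := by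
    intro s
    induction s using Finset.induction_on with
    | empty => simp
    | insert a s ha ih =>
      rw [Finset.sum_insert ha, map_add', ih, QuadraticMap.map_smul, h0, map_sum]
      simp [h1]
  exact key _

theorem map_split_comb {V : Type*} [AddCommGroup V] [Module F V] [FiniteDimensional F V]
    (Q : QuadraticForm F V) {W : Submodule F V} (S : Split Q W) (x y : Fin S.k → F) {u : V}
    (hu : u ∈ S.U) : Q (∑ i, x i • S.e i + ∑ i, y i • S.f i + u) = (∑ i, x i * y i) + Q u := by
  classical
  rw [map_add', map_add', map_comb_zero Q S.Qe S.ee, map_comb_zero Q S.Qf S.ff]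
  simp [S.ef, S.eU _ u hu, S.fU _ u hu, mul_comm]

/-- The isometry classification in even dimension. -/
theorem classify (Q : QuadraticForm F (ι → F)) (hQ : Q.polarBilin.Nondegenerate) {k : ℕ}
    (hι : Fintype.card ι = 2 * k) :
    (∃ e : (PI k → F) ≃ₗ[F] (ι → F), ∀ v, Q (e v) = Cfsg.quadFormPlus k F v) ∨
    (1 ≤ k ∧ ∃ a b : F, (∀ z₁ z₂ : F, z₁ ^ 2 + a * z₁ * z₂ + b * z₂ ^ 2 = 0 → z₁ = 0 ∧ z₂ = 0) ∧
      ∃ e : (MI (k - 1) → F) ≃ₗ[F] (ι → F), ∀ v, Q (e v) = Cfsg.quadFormMinus (k - 1) F a b v) := by
  classical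
  obtain ⟨S⟩ := exists_split Q ⊤ (nondeg_top Q hQ)
  have hdim := S.dim
  rw [finrank_top, Module.finrank_fintype_fun_eq_card, hι] at hdim
  have hU2 := finrank_le_two Q S.aniso
  rcases (show Module.finrank F S.U = 0 ∨ Module.finrank F S.U = 2 by omega) with h0 | h2
  · left
    have hk : S.k = k := by omega
    subst hk
    let L := Fintype.linearCombination F (Sum.elim S.e S.f)
    have hinj : Function.Injective L := by
      rw [← LinearMap.ker_eq_bot, Submodule.eq_bot_iff]
      intro v hv
      have hli := split_indep Q S (ι := Fin 0) (u := Fin.elim0) linearIndependent_empty_type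
        (fun i => i.elim0)
      have := Fintype.linearIndependent_iff.1 hli (Sum.elim v Fin.elim0) (by
        simpa [L, Fintype.linearCombination_apply] using hv)
      exact funext fun i => this (.inl i)
    have hd : Module.finrank F (PI S.k → F) = Module.finrank F (ι → F) := by
      simp [hι, two_mul]
    refine ⟨L.linearEquivOfInjective hinj hd, fun v => ?_⟩
    rw [LinearMap.linearEquivOfInjective_apply]
    have hv : L v = ∑ i, v (.inl i) • S.e i + ∑ i, v (.inr i) • S.f i + 0 := by
      simp [L, Fintype.linearCombination_apply, Fintype.sum_sum_type]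
    rw [hv, map_split_comb Q S _ _ S.U.zero_mem, map_zero, add_zero]
    rfl
  · right
    have hk : S.k = k - 1 := by omega
    refine ⟨by omega, ?_⟩
    rw [← hk]
    obtain ⟨x, hx, y, hy, hQx, hxy, hli, hroot⟩ := exists_plane_basis Q h2 S.nd S.aniso
    refine ⟨1, Q y, fun z₁ z₂ h => ?_, ?_⟩
    · by_cases hz : z₂ = 0
      · exact ⟨by simpa [hz] using h, hz⟩
      · exact absurd (by field_simp; linear_combination h) (hroot (z₁ / z₂))
    let L := Fintype.linearCombination F (Sum.elim (Sum.elim S.e S.f) ![x, y])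
    have hmem : ∀ i, ![x, y] i ∈ S.U := fun i => by fin_cases i <;> simp [hx, hy]
    have hinj : Function.Injective L := by
      rw [← LinearMap.ker_eq_bot, Submodule.eq_bot_iff]
      intro v hv
      have := Fintype.linearIndependent_iff.1 (split_indep Q S hli hmem) v (by
        simpa [L, Fintype.linearCombination_apply] using hv)
      exact funext this
    have hd : Module.finrank F (MI S.k → F) = Module.finrank F (ι → F) := by
      simp [hι]
      omega
    refine ⟨L.linearEquivOfInjective hinj hd, fun v => ?_⟩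
    rw [LinearMap.linearEquivOfInjective_apply]
    have hv : L v = ∑ i, v (.inl (.inl i)) • S.e i + ∑ i, v (.inl (.inr i)) • S.f i
        + (v (.inr 0) • x + v (.inr 1) • y) := by
      simp [L, Fintype.linearCombination_apply, Fintype.sum_sum_type, Fin.sum_univ_two]
    rw [hv, map_split_comb Q S _ _ (S.U.add_mem (S.U.smul_mem _ hx) (S.U.smul_mem _ hy)),
      map_add', QuadraticMap.map_smul, QuadraticMap.map_smul, hQx]
    simp only [map_smul, LinearMap.smul_apply, hxy, Cfsg.quadFormMinus, smul_eq_mul]
    ring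

omit [Fintype F] in
/-- The plus form has a totally singular half. -/
theorem exists_ts_of_plus {Q : (ι → F) → F} {k : ℕ}
    (e : (PI k → F) ≃ₗ[F] (ι → F)) (he : ∀ v, Q (e v) = Cfsg.quadFormPlus k F v) :
    ∃ U : Submodule F (ι → F), Cfsg.Geo.IsTotallySingularQuad Q U ∧ Module.finrank F U = k := by
  let L : (Fin k → F) →ₗ[F] (ι → F) :=
    e.toLinearMap.comp (LinearMap.pi (Sum.elim (fun i => LinearMap.proj i) (fun _ => 0)))
  refine ⟨LinearMap.range L, ?_, ?_⟩
  · rintro _ ⟨v, rfl⟩
    show Q (e _) = 0
    rw [he]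
    simp [Cfsg.quadFormPlus]
  · rw [LinearMap.finrank_range_of_inj, Module.finrank_fin_fun]
    intro u v huv
    funext i
    simpa using congrFun (e.injective huv) (Sum.inl i)

omit [Fintype F] in
/-- The minus form has no totally singular half. -/
theorem no_ts_of_minus {Q : (ι → F) → F} {k : ℕ} {a b : F}
    (hab : ∀ z₁ z₂ : F, z₁ ^ 2 + a * z₁ * z₂ + b * z₂ ^ 2 = 0 → z₁ = 0 ∧ z₂ = 0)
    (e : (MI k → F) ≃ₗ[F] (ι → F)) (he : ∀ v, Q (e v) = Cfsg.quadFormMinus k F a b v)
    (U : Submodule F (ι → F)) (hU : Cfsg.Geo.IsTotallySingularQuad Q U) :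
    Module.finrank F U ≤ k := by
  have h := CfsgLib.FieldPOmega.minus_ts_le hab k (U.map e.symm.toLinearMap) (by
    rintro _ ⟨u, hu, rfl⟩
    rw [CfsgLib.Orth.minusQ_coe, ← he, LinearEquiv.coe_toLinearMap, LinearEquiv.apply_symm_apply]
    exact hU u hu)
  rwa [LinearEquiv.finrank_map_eq] at h

end CfsgLib.QuadType
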