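import Cfsg.Agent.Lib.QuadType.Classify
import Cfsg.Agent.Lib.ClassicalGroups.OrthCard

/-!
Equal types give isometric forms; zero counts; both types occur among the forms with a given polar
form in characteristic two.
-/

set_option autoImplicit false
set_option linter.unusedSectionVars false

namespace CfsgLib.QuadType

open Matrix QuadraticMap

variable {F : Type*} [Field F] [Fintype F] {ι : Type} [Fintype ι] [DecidableEq ι]

/-- `Q` has a totally singular subspace of dimension `k`. -/
def IsPlus (Q : (ι → F) → F) (k : ℕ) : Prop :=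
  ∃ U : Submodule F (ι → F), Cfsg.Geo.IsTotallySingularQuad Q U ∧ Module.finrank F U = k

omit [Fintype F] in
theorem isPlusTypeOn_top_iff {Q : (ι → F) → F} {k : ℕ} (hι : Fintype.card ι = 2 * k) :
    Cfsg.Geo.IsPlusTypeOn Q ⊤ ↔ IsPlus Q k := by
  simp only [Cfsg.Geo.IsPlusTypeOn, IsPlus, le_top, true_and, finrank_top,
    Module.finrank_fintype_fun_eq_card, hι]
  exact exists_congr fun U => and_congr_right fun _ => by omega

omit [Fintype F] in
theorem natCard_zero_congr {κ : Type} {Q : (ι → F) → F} {Q' : (κ → F) → F}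
    (e : (κ → F) ≃ₗ[F] (ι → F)) (he : ∀ v, Q (e v) = Q' v) :
    Nat.card {v : ι → F // Q v = 0} = Nat.card {v : κ → F // Q' v = 0} :=
  (Nat.card_congr (Equiv.subtypeEquiv e.toEquiv fun v => by
    rw [LinearEquiv.coe_toEquiv, he])).symm

theorem card_zero_of_isPlus (Q : QuadraticForm F (ι → F)) (hQ : Q.polarBilin.Nondegenerate) {k : ℕ}
    (hι : Fintype.card ι = 2 * k) (h : IsPlus Q k) :
    Fintype.card F * Nat.card {v : ι → F // Q v = 0} + Fintype.card F ^ k =
      Fintype.card F ^ (2 * k) + Fintype.card F ^ (k + 1) := by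
  rcases classify Q hQ hι with ⟨e, he⟩ | ⟨hk, a, b, hab, e, he⟩
  · rw [natCard_zero_congr e he]; exact ClassicalGroups.card_zero_plus k
  · obtain ⟨U, hU, hUk⟩ := h
    have := no_ts_of_minus hab e he U hU
    omega

theorem card_zero_of_not_isPlus (Q : QuadraticForm F (ι → F)) (hQ : Q.polarBilin.Nondegenerate)
    {k : ℕ} (hι : Fintype.card ι = 2 * k) (h : ¬ IsPlus Q k) :
    Fintype.card F * Nat.card {v : ι → F // Q v = 0} + Fintype.card F ^ (k + 1) =
      Fintype.card F ^ (2 * k) + Fintype.card F ^ k := by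
  rcases classify Q hQ hι with ⟨e, he⟩ | ⟨hk, a, b, hab, e, he⟩
  · exact absurd (exists_ts_of_plus e he) h
  · obtain ⟨j, rfl⟩ : ∃ j, k = j + 1 := ⟨k - 1, by omega⟩
    rw [natCard_zero_congr e he, show j + 1 - 1 = j from rfl]
    exact ClassicalGroups.card_zero_minus hab j

/-- Two forms of the same type are isometric. -/
theorem exists_isometry (Q Q' : QuadraticForm F (ι → F)) (hQ : Q.polarBilin.Nondegenerate)
    (hQ' : Q'.polarBilin.Nondegenerate) {k : ℕ} (hι : Fintype.card ι = 2 * k)
    (h : IsPlus Q k ↔ IsPlus Q' k) : ∃ T : GL ι F, ∀ v, Q ((T : Matrix ι ι F) *ᵥ v) = Q' v := by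
  suffices ∃ e : (ι → F) ≃ₗ[F] (ι → F), ∀ v, Q (e v) = Q' v by
    obtain ⟨e, he⟩ := this
    refine ⟨⟨LinearMap.toMatrix' e.toLinearMap, LinearMap.toMatrix' e.symm.toLinearMap, ?_, ?_⟩,
      fun v => ?_⟩
    · rw [← LinearMap.toMatrix'_comp]; simp
    · rw [← LinearMap.toMatrix'_comp]; simp
    · rw [← he v]
      exact congrArg Q (LinearMap.toMatrix'_mulVec _ _)
  rcases classify Q hQ hι with ⟨e, he⟩ | ⟨hk, a, b, hab, e, he⟩ <;>
    rcases classify Q' hQ' hι with ⟨e', he'⟩ | ⟨hk', a', b', hab', e', he'⟩
  · exact ⟨e'.symm.trans e, fun v => by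
      rw [LinearEquiv.trans_apply, he, ← he', LinearEquiv.apply_symm_apply]⟩
  · obtain ⟨U, hU, hUk⟩ := h.1 (exists_ts_of_plus e he)
    have := no_ts_of_minus hab' e' he' U hU
    omega
  · obtain ⟨U, hU, hUk⟩ := h.2 (exists_ts_of_plus e' he')
    have := no_ts_of_minus hab e he U hU
    omega
  · obtain ⟨T, hT⟩ := CfsgLib.FieldPOmega.exists_minus_iso (k - 1) hab' hab
    let t : (MI (k - 1) → F) ≃ₗ[F] (MI (k - 1) → F) :=
      Matrix.toLin'OfInv T.inv_mul T.mul_inv
    refine ⟨e'.symm.trans (t.trans e), fun v => ?_⟩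
    rw [LinearEquiv.trans_apply, LinearEquiv.trans_apply, he]
    have h1 := hT (e'.symm v)
    rw [CfsgLib.Orth.minusQ_coe, CfsgLib.Orth.minusQ_coe] at h1
    rw [← e'.apply_symm_apply v, he', ← h1, e'.apply_symm_apply]
    rfl

section CharTwo

variable [CharP F 2]

/-- `Q + c ℓ²` for `ℓ = polar(·, w)`. -/
noncomputable def twist (Q : QuadraticForm F (ι → F)) (w : ι → F) (c : F) : QuadraticForm F (ι → F) :=
  Q + c • linMulLin (polarBilin Q w) (polarBilin Q w)

theorem twist_apply (Q : QuadraticForm F (ι → F)) (w : ι → F) (c : F) (v : ι → F) :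
    twist Q w c v = Q v + c * (polar Q w v * polar Q w v) := rfl

theorem polar_twist (Q : QuadraticForm F (ι → F)) (w : ι → F) (c : F) (u v : ι → F) :
    polar (twist Q w c) u v = polar Q u v := by
  have h2 : (2 : F) = 0 := CharTwo.two_eq_zero
  have h := QuadraticMap.map_add Q
  simp only [QuadraticMap.polar, twist_apply]
  have hl : Q (w + (u + v)) - Q w - Q (u + v) =
      (Q (w + u) - Q w - Q u) + (Q (w + v) - Q w - Q v) := by
    simpa [QuadraticMap.polar] using QuadraticMap.polar_add_right Q w u v
  rw [hl]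
  linear_combination (c * (Q (w + u) - Q w - Q u) * (Q (w + v) - Q w - Q v)) * h2

theorem twist_nondeg (Q : QuadraticForm F (ι → F)) (hQ : Q.polarBilin.Nondegenerate) (w : ι → F)
    (c : F) : (twist Q w c).polarBilin.Nondegenerate := by
  rwa [show (twist Q w c).polarBilin = Q.polarBilin from
    LinearMap.ext fun u => LinearMap.ext fun v => by
      simp only [polarBilin_apply_apply, polar_twist]]

/-- If `Q w ≠ 0`, both types occur among the twists by `w`. -/
theorem exists_twists (Q : QuadraticForm F (ι → F)) (hQ : Q.polarBilin.Nondegenerate) {k : ℕ}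
    (hk : 1 ≤ k) (hι : Fintype.card ι = 2 * k) {w : ι → F} (hw : Q w ≠ 0) :
    (∃ c, IsPlus (twist Q w c) k) ∧ (∃ c, ¬ IsPlus (twist Q w c) k) := by
  classical
  set q := Fintype.card F with hq
  set l := polarBilin Q w with hl
  have hw0 : w ≠ 0 := fun h => hw (by rw [h, map_zero])
  have hl0 : l ≠ 0 := fun h => hw0 (hQ.1 w fun v => LinearMap.congr_fun h v)
  have hll : l w = 0 := by simp [hl, polar_self, CharTwo.two_eq_zero, two_smul, CharTwo.add_self_eq_zero]
  have hq1 : 1 < q := Fintype.one_lt_card
  have hker : Nat.card (LinearMap.ker l) = q ^ (2 * k - 1) := by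
    have h1 := l.finrank_range_add_finrank_ker
    rw [LinearMap.range_eq_top.2 (LinearMap.surjective hl0), finrank_top, Module.finrank_self,
      Module.finrank_fintype_fun_eq_card, hι] at h1
    rw [Module.natCard_eq_pow_finrank (K := F), Nat.card_eq_fintype_card (α := F), ← hq]
    congr 1
    omega
  -- on the kernel every coset of the line of `w` has one zero
  have hK : Nat.card {v : LinearMap.ker l // Q v = 0} * q = Nat.card (LinearMap.ker l) := by
    rw [hq, ← Nat.card_eq_fintype_card (α := F), ← Nat.card_prod]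
    refine Nat.card_eq_of_bijective (fun p => (p.1.1 + p.2 • ⟨w, LinearMap.mem_ker.2 hll⟩ : LinearMap.ker l)) ⟨?_, ?_⟩
    · rintro ⟨⟨⟨u, hu⟩, hu0⟩, s⟩ ⟨⟨⟨v, hv⟩, hv0⟩, t⟩ h
      have h' : u + s • w = v + t • w := congrArg Subtype.val h
      have hu' : u = v + (t + s) • w := by
        rw [add_smul, ← add_assoc, ← h', add_assoc, ← add_smul, CharTwo.add_self_eq_zero, zero_smul,
          add_zero]
      have hst : t + s = 0 := by
        have h0 : Q u = 0 := hu0
        rw [hu', QuadraticMap.map_add Q, show Q v = 0 from hv0, QuadraticMap.map_smul,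
          polar_smul_right, QuadraticMap.polar_comm, show polar Q w v = 0 from hv] at h0
        simp only [smul_eq_mul, mul_zero, add_zero, zero_add, mul_eq_zero, or_self] at h0
        exact h0.resolve_right hw
      have : s = t := (CharTwo.add_eq_zero.1 hst).symm
      subst this
      have : u = v := add_right_cancel h'
      subst this
      rfl
    · rintro ⟨v, hv⟩
      obtain ⟨s, hs⟩ := FiniteField.isSquare_of_char_two (ringChar.eq F 2 ▸ rfl : ringChar F = 2) (Q v / Q w)
      have hv' : Q (v + s • w) = 0 := by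
        rw [QuadraticMap.map_add Q, QuadraticMap.map_smul, polar_smul_right, QuadraticMap.polar_comm,
          show polar Q w v = 0 from hv, smul_eq_mul, ← hs, div_mul_cancel₀ _ hw, smul_zero, add_zero,
          CharTwo.add_self_eq_zero]
      refine ⟨(⟨⟨v + s • w, by
        rw [LinearMap.mem_ker, map_add, map_smul, hll, LinearMap.mem_ker.1 hv]; simp⟩, hv'⟩, s), Subtype.ext ?_⟩
      show v + s • w + s • w = v
      rw [add_assoc, ← add_smul, CharTwo.add_self_eq_zero, zero_smul, add_zero]
  -- the pairs (c, zero of the twist by c)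
  have hsum : ∑ c, Nat.card {v : ι → F // twist Q w c v = 0} = q ^ (2 * k) := by
    rw [← Nat.card_sigma]
    have e : ((c : F) × {v : ι → F // twist Q w c v = 0}) ≃
        ({v : LinearMap.ker l // Q v = 0} × F) ⊕ {v : ι → F // l v ≠ 0} :=
      { toFun := fun p => if h : l p.2.1 = 0 then
            .inl (⟨⟨p.2.1, h⟩, by
              have := p.2.2
              rw [twist_apply, show polar Q w p.2.1 = 0 from h, mul_zero, mul_zero, add_zero] at this
              exact this⟩, p.1)
          else .inr ⟨p.2.1, h⟩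
        invFun := Sum.elim (fun p => ⟨p.2, ⟨p.1.1.1, by
            rw [twist_apply, show polar Q w p.1.1.1 = 0 from p.1.1.2, show Q p.1.1.1 = 0 from p.1.2]; simp⟩⟩)
          (fun v => ⟨Q v.1 / (l v.1 * l v.1), ⟨v.1, by
            rw [twist_apply, show polar Q w v.1 = l v.1 from rfl,
              div_mul_cancel₀ _ (mul_ne_zero v.2 v.2), CharTwo.add_self_eq_zero]⟩⟩)
        left_inv := by
          rintro ⟨c, v, hv⟩
          by_cases h : l v = 0
          · simp [h]
          · simp only [h, ↓reduceDIte, Sum.elim_inr]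
            have hc : Q v / (l v * l v) = c := by
              rw [twist_apply, show polar Q w v = l v from rfl, CharTwo.add_eq_zero] at hv
              rw [hv, mul_div_assoc, div_self (mul_ne_zero h h), mul_one]
            subst hc
            rfl
        right_inv := by
          rintro (⟨⟨⟨v, h⟩, hv⟩, c⟩ | ⟨v, h⟩)
          · simp [LinearMap.mem_ker.1 h]
          · simp [h] }
    rw [Nat.card_congr e, Nat.card_sum, Nat.card_prod, Nat.card_eq_fintype_card (α := F), ← hq, hK]
    have h2 := Nat.card_congr (Equiv.sumCompl fun v : ι → F => l v = 0)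
    rw [Nat.card_sum, ClassicalGroups.natCard_pow, hι, ← hq] at h2
    exact h2
  have hlt : q ^ k < q ^ (k + 1) := Nat.pow_lt_pow_right hq1 (by omega)
  constructor <;> by_contra hno <;> push Not at hno
  · have h : ∀ c ∈ (Finset.univ : Finset F),
        q * Nat.card {v : ι → F // twist Q w c v = 0} < q ^ (2 * k) := fun c _ => by
      have := card_zero_of_not_isPlus _ (twist_nondeg Q hQ w c) hι (hno c)
      rw [← hq] at this
      omega
    have := Finset.sum_lt_sum_of_nonempty Finset.univ_nonempty h
    rw [← Finset.mul_sum, hsum, Finset.sum_const, Finset.card_univ, smul_eq_mul, ← hq] at this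
    exact lt_irrefl _ this
  · have h : ∀ c ∈ (Finset.univ : Finset F),
        q ^ (2 * k) < q * Nat.card {v : ι → F // twist Q w c v = 0} := fun c _ => by
      have := card_zero_of_isPlus _ (twist_nondeg Q hQ w c) hι (hno c)
      rw [← hq] at this
      omega
    have := Finset.sum_lt_sum_of_nonempty Finset.univ_nonempty h
    rw [← Finset.mul_sum, hsum, Finset.sum_const, Finset.card_univ, smul_eq_mul, ← hq] at this
    exact lt_irrefl _ this

end CharTwo

end CfsgLib.QuadType
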