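import Cfsg.Agent.Lib.QuadType.SpForms
import Cfsg.Agent.Lib.PrimeClasses.OrthRealise
import Cfsg.Agent.Lib.Maximal99.OrderR

/-!
Elements of odd prime order without fixed vectors in `O⁺` and `O⁻`, and transport of matrices.
-/

set_option autoImplicit false
set_option linter.unusedSectionVars false

namespace CfsgLib.QuadType

open Matrix QuadraticMap

variable {F : Type*} [Field F]

/-- Transport of a matrix along a linear equivalence. -/
theorem exists_transport {κ ι : Type} [Fintype κ] [DecidableEq κ] [Fintype ι] [DecidableEq ι]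
    (e : (κ → F) ≃ₗ[F] (ι → F)) (X : Matrix κ κ F) (r : ℕ) (hX : X ^ r = 1) :
    ∃ M : Matrix ι ι F, M ^ r = 1 ∧ ∀ v, M *ᵥ e v = e (X *ᵥ v) := by
  refine ⟨LinearMap.toMatrixAlgEquiv' (e.toLinearMap ∘ₗ Matrix.toLinAlgEquiv' X ∘ₗ e.symm.toLinearMap), ?_, fun v => ?_⟩
  · have key : ∀ k : ℕ, (e.toLinearMap ∘ₗ Matrix.toLinAlgEquiv' X ∘ₗ e.symm.toLinearMap :
        Module.End F (ι → F)) ^ k = e.toLinearMap ∘ₗ Matrix.toLinAlgEquiv' (X ^ k) ∘ₗ e.symm.toLinearMap := by
      intro k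
      induction k with
      | zero => exact LinearMap.ext fun v => by simp
      | succ k ih =>
        rw [pow_succ, ih, pow_succ, map_mul]
        exact LinearMap.ext fun v => by simp [Module.End.mul_apply]
    rw [← map_pow, key, hX, map_one]
    have : (e.toLinearMap ∘ₗ (1 : Module.End F (κ → F)) ∘ₗ e.symm.toLinearMap : Module.End F (ι → F)) = 1 := by
      exact LinearMap.ext fun v => by simp
    rw [this, map_one]
  · rw [← Matrix.toLinAlgEquiv'_apply, Matrix.toLinAlgEquiv'_toMatrixAlgEquiv']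
    simp

variable [Fintype F] {r : ℕ} [hr : Fact r.Prime]

/-- An element of order `r` of `O⁺_{2d}` without fixed vectors, when `r ∣ q^d - 1`. -/
theorem exists_fpf_plus (hrK : (r : F) ≠ 0) {d : ℕ} (hdiv : r ∣ Fintype.card F ^ d - 1) :
    ∃ X : Matrix (PI d) (PI d) F, X ^ r = 1 ∧
      (∀ v, Cfsg.quadFormPlus d F (X *ᵥ v) = Cfsg.quadFormPlus d F v) ∧ ∀ v, X *ᵥ v = v → v = 0 := by
  classical
  obtain ⟨ζ, hζ, -⟩ := CfsgLib.PrimeClasses.exists_root hrK
  obtain ⟨N, hN⟩ : orderOf (Fintype.card F : ZMod r) ∣ d :=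
    (CfsgLib.OrderR.orderOf_dvd_iff Fintype.card_pos).2 hdiv
  obtain ⟨X, hX, hXc⟩ := CfsgLib.PrimeClasses.exists_GL_realise hζ hrK
    (Pi.single (1 : CfsgLib.PrimeClasses.Orbits hrK) N) d
    (by rw [Finset.sum_pi_single', if_pos (Finset.mem_univ _)]; exact hN.ge)
  have hXfix : ∀ v, X *ᵥ v = v → v = 0 := fun v hv =>
    CfsgLib.PrimeClasses.eq_zero_of_fixed hζ hrK hX (by
      rw [hXc, Finset.sum_pi_single', if_pos (Finset.mem_univ _), Fintype.card_fin]; exact hN.symm) hv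
  let Xi : Matrix (Fin d) (Fin d) F := X ^ (r - 1)
  have hXi : Xi * X = 1 := by
    show X ^ (r - 1) * X = 1
    rw [← pow_succ, Nat.sub_add_cancel hr.out.pos, hX]
  refine ⟨Matrix.fromBlocks X 0 0 Xiᵀ, ?_, fun v => ?_, fun v hv => ?_⟩
  · rw [Matrix.fromBlocks_diagonal_pow, hX, ← transpose_pow, ← pow_mul, mul_comm, pow_mul, hX, one_pow,
      transpose_one, Matrix.fromBlocks_one]
  · have key : ∀ a b : Fin d → F, (X *ᵥ a) ⬝ᵥ (Xiᵀ *ᵥ b) = a ⬝ᵥ b := fun a b => by
      rw [Matrix.mulVec_transpose, dotProduct_comm, ← Matrix.dotProduct_mulVec, mulVec_mulVec, hXi,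
        one_mulVec, dotProduct_comm]
    simp only [Cfsg.quadFormPlus, Matrix.fromBlocks_mulVec, Sum.elim_inl, Sum.elim_inr,
      zero_mulVec, add_zero, zero_add]
    exact key _ _
  · rw [Matrix.fromBlocks_mulVec] at hv
    have hl := hXfix (v ∘ Sum.inl) (funext fun i => by simpa using congrFun hv (Sum.inl i))
    have hr' : v ∘ Sum.inr = 0 := by
      have e : Xiᵀ *ᵥ (v ∘ Sum.inr) = v ∘ Sum.inr :=
        funext fun i => by simpa using congrFun hv (Sum.inr i)
      have hinv : X * Xi = 1 := mul_eq_one_comm.1 hXi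
      refine CfsgLib.PrimeClasses.eq_zero_of_fixed hζ hrK (X := Xᵀ) (by rw [← transpose_pow, hX, transpose_one]) (by
        rw [CfsgLib.PrimeClasses.orbitMult_transpose, hXc, Finset.sum_pi_single', if_pos (Finset.mem_univ _),
          Fintype.card_fin]
        exact hN.symm) ?_
      conv_lhs => rw [← e]
      rw [mulVec_mulVec, ← transpose_mul, hXi, transpose_one, one_mulVec]
    funext i
    rcases i with i | i
    exacts [congrFun hl i, congrFun hr' i]

/-- An element of order `r` of `O⁻_{2d}` without fixed vectors, when `r ∣ q^d + 1` is odd. -/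
theorem exists_fpf_minus (hr2 : r ≠ 2) (hrK : (r : F) ≠ 0) {a b : F}
    (hab : ∀ z₁ z₂ : F, z₁ ^ 2 + a * z₁ * z₂ + b * z₂ ^ 2 = 0 → z₁ = 0 ∧ z₂ = 0)
    {d : ℕ} (hd : 1 ≤ d) (hdiv : r ∣ Fintype.card F ^ d + 1) :
    ∃ X : Matrix (MI (d - 1)) (MI (d - 1)) F, X ^ r = 1 ∧
      (∀ v, Cfsg.quadFormMinus (d - 1) F a b (X *ᵥ v) = Cfsg.quadFormMinus (d - 1) F a b v) ∧
      ∀ v, X *ᵥ v = v → v = 0 := by
  classical
  obtain ⟨ζ, hζ, -⟩ := CfsgLib.PrimeClasses.exists_root hrK
  have hneg : (Fintype.card F : ZMod r) ^ d = -1 := by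
    have h := (ZMod.natCast_eq_zero_iff _ r).2 hdiv
    push_cast at h
    exact eq_neg_of_add_eq_zero_left h
  have hne : (-1 : ZMod r) ≠ 1 := by
    intro h
    have h2 : ((2 : ℕ) : ZMod r) = 0 := by push_cast; linear_combination -h
    exact hr2 ((Nat.prime_dvd_prime_iff_eq hr.out Nat.prime_two).1 ((ZMod.natCast_eq_zero_iff _ _).1 h2))
  set i := orderOf (Fintype.card F : ZMod r) with hi
  have h2d : i ∣ 2 * d := orderOf_dvd_of_pow_eq_one (by rw [mul_comm, pow_mul, hneg]; ring)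
  have hnd : ¬ i ∣ d := fun h => hne (by rw [← hneg, orderOf_dvd_iff_pow_eq_one.1 h])
  obtain ⟨j, hj⟩ : Even i := by
    rcases Nat.even_or_odd i with h | h
    · exact h
    · exact absurd ((Nat.Coprime.dvd_mul_left (Nat.coprime_two_right.2 h)).1 h2d) hnd
  have hij : i = 2 * j := by omega
  obtain ⟨N, hN⟩ := h2d
  have hd' : d = j * N := by
    rw [hij, mul_assoc] at hN
    exact Nat.eq_of_mul_eq_mul_left two_pos hN
  have hNodd : Odd N := by
    rcases Nat.even_or_odd N with ⟨t, ht⟩ | h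
    · exact absurd ⟨t, by rw [hd', ht, hij]; ring⟩ hnd
    · exact h
  have hsum : ∑ ω, (Pi.single (1 : CfsgLib.PrimeClasses.Orbits hrK) N : CfsgLib.PrimeClasses.Orbits hrK → ℕ) ω = N := by
    rw [Finset.sum_pi_single', if_pos (Finset.mem_univ _)]
  have h := (CfsgLib.PrimeClasses.O_realise_blocks hζ hrK hab (j := j) (hi ▸ hij)
    (Pi.single (1 : CfsgLib.PrimeClasses.Orbits hrK) N)).2 (by rw [hsum]; exact hNodd)
  rw [hsum, show N * j = d by rw [hd']; ring] at h
  obtain ⟨X, hX, hXQ, hXc⟩ := h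
  refine ⟨X, hX, hXQ, fun v hv => CfsgLib.PrimeClasses.eq_zero_of_fixed hζ hrK hX ?_ hv⟩
  rw [hXc, hsum, ← hi, hij]
  simp only [Fintype.card_sum, Fintype.card_fin]
  have : N * j = d := by rw [hd']; ring
  rw [show 2 * j * N = 2 * (N * j) by ring, this]
  omega

end CfsgLib.QuadType
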